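import Cfsg.Agent.Lib.H35.NSuz.Net
set_option autoImplicit false
set_option maxRecDepth 100000
set_option linter.all false
set_option Elab.async false
namespace H35.NSuz
open H35.TC H35.Net
open H35.TCSuzA (Lt inv mm extra subs)
theorem pres_chk : chkPres net [.a, .b, .c, .d, .e, .f, .g] 1782 = true := by decide +kernel
theorem letters_all : ∀ x : Lt, x ∈ [Lt.a, Lt.b, Lt.c, Lt.d, Lt.e, Lt.f, Lt.g] := by
  intro x; cases x <;> decide
theorem pres : ∀ x b, π x b < 1782 ↔ b < 1782 := fun x => pres_of_chk hbp pres_chk x (letters_all x)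
theorem fix_chk : chkFixHi net [.a, .b, .c, .d, .e, .f, .g] 11 1782 = true := by decide +kernel
theorem fix_hi : ∀ x b, 1782 ≤ b → π x b = b := fun x => fix_of_chk hbp fix_chk x (letters_all x)
theorem trans_chk : chkTrans net [[.a], [.b], [.c], [.d], [.e], [.f], [.g]] 6 1782 0 = true := by decide +kernel
theorem trans {Γ : Subgroup (Equiv.Perm ℕ)} (hΓ : ∀ x, π x ∈ Γ) : ∀ c, c < 1782 → ∃ g ∈ Γ, g 0 = c := trans_of_chk hbp hΓ trans_chk
theorem subs_fix : chkFixF net [[.a], [.b], [.c], [.d], [.e], [.f]] [0] = true := by decide +kernel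
theorem subs_fix0 : ∀ w ∈ subs, (w.map π).prod 0 = 0 := fun w hw => prod_fix hbp subs_fix w hw 0 (by simp)
/-- suborbit mask -/
noncomputable def O_0 : ℕ := reachF net [[.a], [.b], [.c], [.d], [.e], [.f]] 5 (Nat.shiftLeft 1 137)
theorem O_0_card : popc 11 O_0 = 416 := by decide +kernel
theorem O_0_closed : chkClosed net subs O_0 = true := by decide +kernel
theorem O_0_orb {Γ : Subgroup (Equiv.Perm ℕ)} (hΓ : ∀ w ∈ subs, (w.map π).prod ∈ Γ) : ∀ c, O_0.testBit c = true → ∃ g ∈ Γ, g 137 = c := fun c hc => reachF_orbit hbp hΓ c hc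
/-- suborbit mask -/
noncomputable def O_1 : ℕ := reachF net [[.a], [.b], [.c], [.d], [.e], [.f]] 5 (Nat.shiftLeft 1 1)
theorem O_1_card : popc 11 O_1 = 1365 := by decide +kernel
theorem O_1_closed : chkClosed net subs O_1 = true := by decide +kernel
theorem O_1_orb {Γ : Subgroup (Equiv.Perm ℕ)} (hΓ : ∀ w ∈ subs, (w.map π).prod ∈ Γ) : ∀ c, O_1.testBit c = true → ∃ g ∈ Γ, g 1 = c := fun c hc => reachF_orbit hbp hΓ c hc
theorem O_union : chkFull (Nat.lor (Nat.lor (1) O_0) O_1) 1782 = true := by decide +kernel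
/-- words of level 0 -/
def ws_0 : List (List Lt) := [
   [.a],
   [.b],
   [.c],
   [.d],
   [.e],
   [.f],
   [.g]]
theorem nb_0 : chkTrans net ws_0 6 1782 0 = true := by decide +kernel
/-- words of level 1 -/
def ws_1 : List (List Lt) := [
   [.b],
   [.c],
   [.d],
   [.e],
   [.f]]
theorem fx_1 : chkFixF net ws_1 [0] = true := by decide +kernel
theorem nb_1 : chkOrb net 11 ws_1 8 1781 416 = true := by decide +kernel
/-- words of level 2 -/
def ws_2 : List (List Lt) := [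
   [.b],
   [.c],
   [.d],
   [.e]]
theorem fx_2 : chkFixF net ws_2 [1781, 0] = true := by decide +kernel
theorem nb_2 : chkOrb net 11 ws_2 8 1 315 = true := by decide +kernel
/-- words of level 3 -/
def ws_3 : List (List Lt) := [
   [.d],
   [.e],
   [.b, .c, .d, .c, .b, .d, .c, .d, .c, .d, .b, .c, .d, .c, .d, .b, .c, .d, .c, .b]]
theorem fx_3 : chkFixF net ws_3 [1, 1781, 0] = true := by decide +kernel
theorem nb_3 : chkOrb net 11 ws_3 6 69 640 = true := by decide +kernel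
/-- words of level 4 -/
def ws_4 : List (List Lt) := [
   [.d, .b, .c, .d, .c, .b, .d, .c, .d, .c, .b, .d, .c, .d, .c, .d, .b, .c, .d, .c, .b, .d, .b, .c, .d, .c, .b, .d, .c, .d, .c, .b, .d, .c, .d, .c, .d, .b, .c, .d, .c, .b, .d, .b, .c, .d, .c, .b, .d, .c, .d, .c, .d, .b, .c, .d, .c, .d, .b, .c, .d, .c, .b, .d, .b, .c, .d, .c, .b, .d, .c, .d, .c, .d, .b, .c, .d, .c, .d, .b, .c, .d, .c, .b]]
theorem fx_4 : chkFixF net ws_4 [69, 1, 1781, 0] = true := by decide +kernel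
theorem nb_4 : chkOrb net 11 ws_4 2 45 3 = true := by decide +kernel
theorem order_ge {Γ : Subgroup (Equiv.Perm ℕ)} [Finite Γ] (hΓ : ∀ x, π x ∈ Γ) : 448345497600 ≤ Nat.card Γ := by
  have h5 : 1 ≤ Nat.card (stabs Γ [45, 69, 1, 1781, 0]) := chain_end _
  have h4 : 3 * (1) ≤ Nat.card (stabs Γ [69, 1, 1781, 0]) := chain_stepF hbp hΓ fx_4 nb_4 h5
  have h3 : 640 * (3 * (1)) ≤ Nat.card (stabs Γ [1, 1781, 0]) := chain_stepF hbp hΓ fx_3 nb_3 h4
  have h2 : 315 * (640 * (3 * (1))) ≤ Nat.card (stabs Γ [1781, 0]) := chain_stepF hbp hΓ fx_2 nb_2 h3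
  have h1 : 416 * (315 * (640 * (3 * (1)))) ≤ Nat.card (stabs Γ [0]) := chain_stepF hbp hΓ fx_1 nb_1 h2
  have h0 : 1782 * (416 * (315 * (640 * (3 * (1))))) ≤ Nat.card Γ := chain_stepT hbp hΓ nb_0 h1
  calc 448345497600 = 1782 * (416 * (315 * (640 * (3 * (1))))) := by norm_num
    _ ≤ _ := h0
end H35.NSuz
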