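import Cfsg.Agent.Lib.H35.NSuz.Net
set_option autoImplicit false
set_option maxRecDepth 100000
set_option linter.all false
set_option Elab.async false
namespace H35.NSuz
open H35.TC H35.Net
open H35.TCSuzA (Lt inv mm extra subs)
/-- checked pairs -/
def prs : List (Lt × Lt) := [(.a, .a), (.a, .b), (.a, .c), (.a, .d), (.a, .e), (.a, .f), (.a, .g), (.b, .b), (.b, .c), (.b, .d), (.b, .e), (.b, .f), (.b, .g), (.c, .c), (.c, .d), (.c, .e), (.c, .f), (.c, .g), (.d, .d), (.d, .e), (.d, .f), (.d, .g), (.e, .e), (.e, .f), (.e, .g), (.f, .f), (.f, .g), (.g, .g)]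
theorem pr_a_a : chkW net 11 [.a, .a] 1 0 11 = true := by decide +kernel
theorem pr_a_b : chkW net 11 [.a, .b] 5 0 11 = true := by decide +kernel
theorem pr_a_c : chkW net 11 [.a, .c] 2 0 11 = true := by decide +kernel
theorem pr_a_d : chkW net 11 [.a, .d] 2 0 11 = true := by decide +kernel
theorem pr_a_e : chkW net 11 [.a, .e] 2 0 11 = true := by decide +kernel
theorem pr_a_f : chkW net 11 [.a, .f] 2 0 11 = true := by decide +kernel
theorem pr_a_g : chkW net 11 [.a, .g] 2 0 11 = true := by decide +kernel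
theorem pr_b_b : chkW net 11 [.b, .b] 1 0 11 = true := by decide +kernel
theorem pr_b_c : chkW net 11 [.b, .c] 3 0 11 = true := by decide +kernel
theorem pr_b_d : chkW net 11 [.b, .d] 2 0 11 = true := by decide +kernel
theorem pr_b_e : chkW net 11 [.b, .e] 2 0 11 = true := by decide +kernel
theorem pr_b_f : chkW net 11 [.b, .f] 3 0 11 = true := by decide +kernel
theorem pr_b_g : chkW net 11 [.b, .g] 3 0 11 = true := by decide +kernel
theorem pr_c_c : chkW net 11 [.c, .c] 1 0 11 = true := by decide +kernel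
theorem pr_c_d : chkW net 11 [.c, .d] 8 0 11 = true := by decide +kernel
theorem pr_c_e : chkW net 11 [.c, .e] 2 0 11 = true := by decide +kernel
theorem pr_c_f : chkW net 11 [.c, .f] 2 0 11 = true := by decide +kernel
theorem pr_c_g : chkW net 11 [.c, .g] 2 0 11 = true := by decide +kernel
theorem pr_d_d : chkW net 11 [.d, .d] 1 0 11 = true := by decide +kernel
theorem pr_d_e : chkW net 11 [.d, .e] 3 0 11 = true := by decide +kernel
theorem pr_d_f : chkW net 11 [.d, .f] 2 0 11 = true := by decide +kernel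
theorem pr_d_g : chkW net 11 [.d, .g] 2 0 11 = true := by decide +kernel
theorem pr_e_e : chkW net 11 [.e, .e] 1 0 11 = true := by decide +kernel
theorem pr_e_f : chkW net 11 [.e, .f] 2 0 11 = true := by decide +kernel
theorem pr_e_g : chkW net 11 [.e, .g] 2 0 11 = true := by decide +kernel
theorem pr_f_f : chkW net 11 [.f, .f] 1 0 11 = true := by decide +kernel
theorem pr_f_g : chkW net 11 [.f, .g] 4 0 11 = true := by decide +kernel
theorem pr_g_g : chkW net 11 [.g, .g] 1 0 11 = true := by decide +kernel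
theorem all_prs : ∀ x y, mm x y = 0 ∨ (x, y) ∈ prs ∨ (y, x) ∈ prs := by
  intro x y
  cases x <;> cases y <;> decide
theorem mm_symm : ∀ x y, mm x y = mm y x := by
  intro x y
  cases x <;> cases y <;> rfl
theorem prs_ok : ∀ p ∈ prs, chkW net 11 [p.1, p.2] (mm p.1 p.2) 0 11 = true := by
  intro p hp
  simp only [prs, List.mem_cons, List.mem_nil_iff, or_false] at hp
  rcases hp with rfl | rfl | rfl | rfl | rfl | rfl | rfl | rfl | rfl | rfl | rfl | rfl | rfl | rfl | rfl | rfl | rfl | rfl | rfl | rfl | rfl | rfl | rfl | rfl | rfl | rfl | rfl | rfl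
  · exact pr_a_a
  · exact pr_a_b
  · exact pr_a_c
  · exact pr_a_d
  · exact pr_a_e
  · exact pr_a_f
  · exact pr_a_g
  · exact pr_b_b
  · exact pr_b_c
  · exact pr_b_d
  · exact pr_b_e
  · exact pr_b_f
  · exact pr_b_g
  · exact pr_c_c
  · exact pr_c_d
  · exact pr_c_e
  · exact pr_c_f
  · exact pr_c_g
  · exact pr_d_d
  · exact pr_d_e
  · exact pr_d_f
  · exact pr_d_g
  · exact pr_e_e
  · exact pr_e_f
  · exact pr_e_g
  · exact pr_f_f
  · exact pr_f_g
  · exact pr_g_g
theorem hp : ∀ x y, (π x * π y) ^ mm x y = 1 := cox_of_pairs hbp all_prs mm_symm prs_ok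
theorem ex_0_0 : chkW net 11 [.a, .g, .f, .g, .f] 1 0 11 = true := by decide +kernel
theorem ex_0 : ((([.a, .g, .f, .g, .f] : List Lt).map π).prod) ^ 1 = 1 := by
  refine pow_eq_one hbp (k := 11) fun r hr => ?_
  exact chkW_spec ex_0_0 r (by omega) (by omega)
theorem ex_1_0 : chkW net 11 [.a, .d, .c, .d, .c, .d, .c, .d, .c] 1 0 11 = true := by decide +kernel
theorem ex_1 : ((([.a, .d, .c, .d, .c, .d, .c, .d, .c] : List Lt).map π).prod) ^ 1 = 1 := by
  refine pow_eq_one hbp (k := 11) fun r hr => ?_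
  exact chkW_spec ex_1_0 r (by omega) (by omega)
theorem ex_2_0 : chkW net 11 [.b, .f, .g] 5 0 11 = true := by decide +kernel
theorem ex_2 : ((([.b, .f, .g] : List Lt).map π).prod) ^ 5 = 1 := by
  refine pow_eq_one hbp (k := 11) fun r hr => ?_
  exact chkW_spec ex_2_0 r (by omega) (by omega)
theorem ex_3_0 : chkW net 11 [.a, .b, .c, .f] 5 0 11 = true := by decide +kernel
theorem ex_3 : ((([.a, .b, .c, .f] : List Lt).map π).prod) ^ 5 = 1 := by
  refine pow_eq_one hbp (k := 11) fun r hr => ?_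
  exact chkW_spec ex_3_0 r (by omega) (by omega)
theorem ex_4_0 : chkW net 11 [.b, .c, .d, .c, .d, .b, .c, .d, .c, .d, .b, .c, .d, .c, .d, .b, .c, .d, .c, .d, .b, .c, .d, .c, .d, .e] 3 0 11 = true := by decide +kernel
theorem ex_4 : ((([.b, .c, .d, .c, .d, .b, .c, .d, .c, .d, .b, .c, .d, .c, .d, .b, .c, .d, .c, .d, .b, .c, .d, .c, .d, .e] : List Lt).map π).prod) ^ 3 = 1 := by
  refine pow_eq_one hbp (k := 11) fun r hr => ?_
  exact chkW_spec ex_4_0 r (by omega) (by omega)
theorem he : ∀ p ∈ extra, ((p.1.map π).prod) ^ p.2 = 1 := by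
  intro p hp
  simp only [extra, List.mem_cons, List.mem_nil_iff, or_false] at hp
  rcases hp with rfl | rfl | rfl | rfl | rfl
  · exact ex_0
  · exact ex_1
  · exact ex_2
  · exact ex_3
  · exact ex_4
end H35.NSuz
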