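import Cfsg.Agent.Lib.H35.NSuz.Net
set_option autoImplicit false
set_option maxRecDepth 100000
set_option linter.all false
set_option Elab.async false
namespace H35.NSuz
open H35.TC H35.Net
open H35.TCSuzA (Lt inv mm extra subs)
theorem sw_0_0 : chkW net 11 [.c, .b, .d, .e, .f, .g] 11 0 11 = true := by decide +kernel
theorem sw_0 : ((([.c, .b, .d, .e, .f, .g] : List Lt).map π).prod) ^ 11 = 1 := by
  refine pow_eq_one hbp (k := 11) fun r hr => ?_
  exact chkW_spec sw_0_0 r (by omega) (by omega)
theorem sw_1_0 : chkW net 11 [.b, .c, .d, .e, .g, .f] 11 0 11 = true := by decide +kernel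
theorem sw_1 : ((([.b, .c, .d, .e, .g, .f] : List Lt).map π).prod) ^ 11 = 1 := by
  refine pow_eq_one hbp (k := 11) fun r hr => ?_
  exact chkW_spec sw_1_0 r (by omega) (by omega)
theorem sw_2_0 : chkW net 11 [.b, .c, .d, .e, .f, .g] 11 0 11 = true := by decide +kernel
theorem sw_2 : ((([.b, .c, .d, .e, .f, .g] : List Lt).map π).prod) ^ 11 = 1 := by
  refine pow_eq_one hbp (k := 11) fun r hr => ?_
  exact chkW_spec sw_2_0 r (by omega) (by omega)
end H35.NSuz
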